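import Cfsg.Agent.H697.Alm.Defs
import Cfsg.Agent.S1948

/-!
# S4790, T26: the reduction (helper488)

T17 (`kap_le_apr`), T18a (`apr_quot`), T18b (`apr_quot_lt`) and T20 (`ext_step`) are hypotheses of `reduction_of`.
-/

set_option autoImplicit false
set_option linter.unusedSectionVars false

namespace Cfsg.Agent.H697.Alm

open Cfsg

universe u

namespace H488Red

variable {G : Type u} [Group G] [Finite G]

/-- `N` is minimal normal -/
def MinN (N : Subgroup G) : Prop :=
  N.Normal ∧ N ≠ ⊥ ∧ ∀ M : Subgroup G, M.Normal → M ≤ N → M = ⊥ ∨ M = N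

theorem exists_min {K : Subgroup G} (hK : K.Normal) (h1 : K ≠ ⊥) : ∃ N ≤ K, MinN N := by
  obtain ⟨N, ⟨hNn, hN1, hNK⟩, hmin⟩ :=
    (Set.toFinite {M : Subgroup G | M.Normal ∧ M ≠ ⊥ ∧ M ≤ K}).exists_minimal ⟨K, hK, h1, le_rfl⟩
  refine ⟨N, hNK, hNn, hN1, fun M hM hMN => ?_⟩
  by_cases hM1 : M = ⊥
  · exact Or.inl hM1
  · exact Or.inr (le_antisymm hMN (hmin ⟨hM, hM1, hMN.trans hNK⟩ hMN))

theorem isPGroup {p : ℕ} [Fact p.Prime] {N : Subgroup G} (hN : MinN N) (hc : ∀ x ∈ N, ∀ y ∈ N, x * y = y * x)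
    (hd : p ∣ Nat.card N) : IsPGroup p N := by
  obtain ⟨hn, h1, hmin⟩ := hN
  let K : Subgroup G :=
    { carrier := {x | x ∈ N ∧ x ^ p = 1}
      one_mem' := ⟨one_mem _, one_pow _⟩
      mul_mem' := by
        rintro x y ⟨hx, hx'⟩ ⟨hy, hy'⟩
        refine ⟨mul_mem hx hy, ?_⟩
        have h : Commute x y := hc x hx y hy
        rw [h.mul_pow, hx', hy', one_mul]
      inv_mem' := by
        rintro x ⟨hx, hx'⟩
        refine ⟨inv_mem hx, ?_⟩
        rw [inv_pow, hx', inv_one] }
  have hKn : K.Normal := ⟨fun x hx g => ⟨hn.conj_mem x hx.1 g, by rw [conj_pow, hx.2, mul_one, mul_inv_cancel]⟩⟩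
  have hKN : K ≤ N := fun x hx => hx.1
  obtain ⟨x, hx⟩ := exists_prime_orderOf_dvd_card' p hd
  have hxK : (x : G) ∈ K := by
    refine ⟨x.2, ?_⟩
    have h2 : orderOf (x : G) = p := by rw [Subgroup.orderOf_coe]; exact hx
    rw [← h2, pow_orderOf_eq_one]
  have hK : K = N := by
    rcases hmin K hKn hKN with h | h
    · exfalso
      rw [h, Subgroup.mem_bot] at hxK
      have h3 : x = 1 := Subtype.ext hxK
      rw [h3, orderOf_one] at hx
      exact (Fact.out : p.Prime).one_lt.ne hx
    · exact h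
  intro y
  refine ⟨1, Subtype.ext ?_⟩
  have hy : (y : G) ∈ K := by rw [hK]; exact y.2
  rw [pow_one]
  exact hy.2

theorem perfect {N : Subgroup G} (hN : MinN N) (hc : ¬ ∀ x ∈ N, ∀ y ∈ N, x * y = y * x) : commutator N = ⊤ := by
  obtain ⟨hn, h1, hmin⟩ := hN
  have h2 : (commutator N).map N.subtype = ⁅N, N⁆ := Subgroup.map_subtype_commutator N
  rcases hmin ⁅N, N⁆ inferInstance (Subgroup.commutator_le_self N) with h | h
  · exfalso
    apply hc
    rw [Subgroup.commutator_eq_bot_iff_le_centralizer] at h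
    intro x hx y hy
    exact (Subgroup.mem_centralizer_iff.mp (h hx) y hy).symm
  · rw [h] at h2
    apply Subgroup.map_injective N.subtype_injective
    rw [h2, ← MonoidHom.range_eq_map, Subgroup.range_subtype]

theorem centralizer_inf {N : Subgroup G} (hN : MinN N) (hc : ¬ ∀ x ∈ N, ∀ y ∈ N, x * y = y * x) :
    Subgroup.centralizer (N : Set G) ⊓ N = ⊥ := by
  obtain ⟨hn, h1, hmin⟩ := hN
  rcases hmin (Subgroup.centralizer (N : Set G) ⊓ N) inferInstance inf_le_right with h | h
  · exact h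
  · exfalso
    apply hc
    intro x hx y hy
    rw [inf_eq_right] at h
    exact (Subgroup.mem_centralizer_iff.mp (h hx) y hy).symm

theorem le_of_normal {p : ℕ} [Fact p.Prime] {N M : Subgroup G} (hn : N.Normal) (hi : ¬ p ∣ N.index)
    (hM : IsPGroup p M) : M ≤ N := by
  intro x hx
  obtain ⟨k, hk⟩ := hM ⟨x, hx⟩
  have hk' : x ^ p ^ k = 1 := congrArg Subtype.val hk
  have h1 : ((x : G) : G ⧸ N) ^ p ^ k = 1 := by
    rw [← QuotientGroup.mk_pow, hk', QuotientGroup.mk_one]
  have h2 : ((x : G) : G ⧸ N) ^ N.index = 1 := by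
    rw [Subgroup.index_eq_card]
    exact pow_card_eq_one'
  have h3 : Nat.Coprime (p ^ k) N.index :=
    Nat.Coprime.pow_left k (((Fact.out : p.Prime).coprime_iff_not_dvd).mpr hi)
  have h4 : orderOf ((x : G) : G ⧸ N) ∣ 1 := by
    rw [← h3]
    exact Nat.dvd_gcd (orderOf_dvd_of_pow_eq_one h1) (orderOf_dvd_of_pow_eq_one h2)
  rw [Nat.dvd_one, orderOf_eq_one_iff] at h4
  exact (QuotientGroup.eq_one_iff x).mp h4

end H488Red

open H488Red

theorem reduction_of {p : ℕ} [Fact p.Prime]
    (hkap : ∀ (G : Type u) [Group G] [Finite G], kap p G ≤ apr p G)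
    (hq : ∀ (G : Type u) [Group G] [Finite G] (N : Subgroup G) [N.Normal], apr p (G ⧸ N) ≤ apr p G)
    (hqlt : ∀ (G : Type u) [Group G] [Finite G] (N : Subgroup G) [N.Normal], N ≠ ⊥ →
      (¬ p ∣ Nat.card N ∨ commutator N = ⊤) → apr p (G ⧸ N) < apr p G)
    (hstep : ∀ (G : Type u) [Group G] [Finite G] (N : Subgroup G) [N.Normal], IsPGroup p N → Ext p (G ⧸ N) →
      p ∣ Nat.card (G ⧸ N) → apr p G ^ 2 = 4 * (p - 1) → Ext p G)
    (haff : ∀ (G : Type u) [Group G] [Finite G] (N : Subgroup G) [N.Normal], IsPGroup p N →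
      (∀ x ∈ N, ∀ y ∈ N, x * y = y * x) → (∀ M : Subgroup G, M.Normal → M ≤ N → M = ⊥ ∨ M = N) → N ≠ ⊥ →
      ¬ p ∣ N.index → Subgroup.centralizer (N : Set G) = N →
      4 * (p - 1) ≤ kap p G ^ 2 ∧ (kap p G ^ 2 = 4 * (p - 1) → Ext p G))
    (hnab : ∀ (G : Type u) [Group G] [Finite G] (N : Subgroup G) [N.Normal],
      (∀ M : Subgroup G, M.Normal → M ≤ N → M = ⊥ ∨ M = N) → N ≠ ⊥ →
      (¬ ∀ x ∈ N, ∀ y ∈ N, x * y = y * x) → ¬ p ∣ N.index → p ∣ Nat.card N → Subgroup.centralizer (N : Set G) = ⊥ →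
      4 * (p - 1) < kap p G ^ 2)
    {G : Type u} [Group G] [Finite G]
    (hd : p ∣ Nat.card G) : 4 * (p - 1) ≤ apr p G ^ 2 ∧ (apr p G ^ 2 = 4 * (p - 1) → Ext p G) := by
  have hp : p.Prime := Fact.out
  have key : ∀ (n : ℕ) (G : Type u) [Group G] [Finite G], Nat.card G = n → p ∣ Nat.card G →
      4 * (p - 1) ≤ apr p G ^ 2 ∧ (apr p G ^ 2 = 4 * (p - 1) → Ext p G) := by
    intro n
    induction n using Nat.strong_induction_on with
    | _ n ih =>
    intro G _ _ hn hd
    -- the comparison of `kap` and `apr`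
    have hle : ∀ {m : ℕ}, m ≤ kap p G ^ 2 → m ≤ apr p G ^ 2 := fun h => h.trans (Nat.pow_le_pow_left (hkap G) 2)
    by_cases hcase : ∃ N : Subgroup G, MinN N ∧ p ∣ N.index
    · obtain ⟨N, hN, hpi⟩ := hcase
      have hNn : N.Normal := hN.1
      have hcard : Nat.card G = Nat.card N * N.index := (Subgroup.card_mul_index N).symm
      have hN2 : 1 < Nat.card N := by
        rw [Subgroup.one_lt_card_iff_ne_bot]; exact hN.2.1
      have hlt : Nat.card (G ⧸ N) < n := by
        rw [← Subgroup.index_eq_card, ← hn, hcard]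
        have : 0 < N.index := Nat.pos_of_ne_zero (Subgroup.index_ne_zero_of_finite)
        nlinarith
      have hdq : p ∣ Nat.card (G ⧸ N) := by rw [← Subgroup.index_eq_card]; exact hpi
      obtain ⟨h1, h2⟩ := ih _ hlt (G ⧸ N) rfl hdq
      have hstrict : (¬ p ∣ Nat.card N ∨ commutator N = ⊤) →
          4 * (p - 1) ≤ apr p G ^ 2 ∧ (apr p G ^ 2 = 4 * (p - 1) → Ext p G) := by
        intro h
        have h3 := hqlt G N hN.2.1 h
        have h4 : apr p (G ⧸ N) ^ 2 < apr p G ^ 2 := Nat.pow_lt_pow_left h3 (by norm_num)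
        exact ⟨h1.trans h4.le, fun h5 => absurd h5 (by omega)⟩
      by_cases hpN : p ∣ Nat.card N
      · by_cases hc : ∀ x ∈ N, ∀ y ∈ N, x * y = y * x
        · have h3 : apr p (G ⧸ N) ^ 2 ≤ apr p G ^ 2 := Nat.pow_le_pow_left (hq G N) 2
          refine ⟨h1.trans h3, fun h4 => ?_⟩
          exact hstep G N (H488Red.isPGroup hN hc hpN) (h2 (by omega)) hdq h4
        · exact hstrict (Or.inr (perfect hN hc))
      · exact hstrict (Or.inl hpN)
    · push Not at hcase
      have hG : (⊤ : Subgroup G) ≠ ⊥ := by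
        intro h
        have h1 : Nat.card G = 1 := by
          rw [← Subgroup.card_top (G := G), h, Subgroup.card_bot]
        rw [h1] at hd
        exact hp.one_lt.ne' (Nat.dvd_one.mp hd)
      obtain ⟨N, -, hN⟩ := exists_min (inferInstance : (⊤ : Subgroup G).Normal) hG
      have hNn : N.Normal := hN.1
      have hi := hcase N hN
      have hdN : p ∣ Nat.card N := by
        have h1 : p ∣ Nat.card N * N.index := by rw [Subgroup.card_mul_index]; exact hd
        exact (hp.dvd_mul.mp h1).resolve_right hi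
      by_cases hc : ∀ x ∈ N, ∀ y ∈ N, x * y = y * x
      · have hNp := H488Red.isPGroup hN hc hdN
        have hcore : pPrimeCore p G = ⊥ := by
          rw [pPrimeCore, sSup_eq_bot]
          rintro M ⟨hMn, hMc⟩
          by_contra hM1
          obtain ⟨K, hKM, hK⟩ := exists_min hMn hM1
          apply hcase K hK
          have h1 : p ∣ Nat.card K * K.index := by rw [Subgroup.card_mul_index]; exact hd
          refine (hp.dvd_mul.mp h1).resolve_left fun h2 => ?_
          have h3 : p ∣ Nat.card M := h2.trans (Subgroup.card_dvd_of_le hKM)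
          exact ((hp.coprime_iff_not_dvd).mp hMc.symm) h3
        have hpc : pCore p G = N := by
          apply le_antisymm
          · apply sSup_le
            rintro M ⟨-, hM⟩
            exact le_of_normal hNn hi hM
          · exact le_sSup ⟨hNn, hNp⟩
        have hcen : Subgroup.centralizer (N : Set G) = N := by
          apply le_antisymm
          · have h1 := Cfsg.Agent.S1948.charP_of_normal_sylow (p := p) N hNp hi hNn hcore
            rwa [hpc] at h1
          · intro x hx
            rw [Subgroup.mem_centralizer_iff]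
            intro y hy
            exact hc y hy x hx
        obtain ⟨h1, h2⟩ := haff G N hNp hc hN.2.2 hN.2.1 hi hcen
        refine ⟨hle h1, fun h3 => h2 ?_⟩
        have h4 := Nat.pow_le_pow_left (hkap G) 2
        omega
      · have hcen : Subgroup.centralizer (N : Set G) = ⊥ := by
          by_contra h1
          obtain ⟨M, hMC, hM⟩ := exists_min (K := Subgroup.centralizer (N : Set G)) inferInstance h1
          have hMn : M.Normal := hM.1
          apply hcase M hM
          -- `N` embeds in `G ⧸ M`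
          have hinf : N ⊓ M = ⊥ := by
            rw [eq_bot_iff, ← centralizer_inf hN hc]
            exact le_inf (inf_le_right.trans hMC) inf_le_left
          refine hdN.trans ?_
          have h2 : M.relIndex N ∣ M.index := Subgroup.relIndex_dvd_index_of_normal M N
          have h3 : M.relIndex N = Nat.card N := by
            rw [← Subgroup.inf_relIndex_left, hinf, Subgroup.relIndex_bot_left]
          rwa [h3] at h2
        have h1 := hnab G N hN.2.2 hN.2.1 hc hi hdN hcen
        have h2 := Nat.pow_le_pow_left (hkap G) 2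
        exact ⟨by omega, fun h3 => by omega⟩
  exact key _ G rfl hd

end Cfsg.Agent.H697.Alm
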